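import Cfsg.Agent.H924.D5K
import Cfsg.Agent.H948.Ppd.TypeB
import Cfsg.Agent.H69.Ppd.FieldD

/-!
# S3570, tight cores: the spin module of type `B_4` (helper35)

* `fr8_four` : type `B_4`, `J^c = {3}`, `dim V ≤ 16` : a frame of vertices;
* `fixQ_of_fr8` : a frame of vertices, `p = 2` : an invariant symplectic form gives an invariant quadratic form;
* **`fixQ_spin`**.
-/

set_option autoImplicit false
set_option linter.unusedSectionVars false
set_option linter.style.haveILetI false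
set_option linter.style.longLine false

namespace Cfsg.Agent.SM.Ti.BC

open CoxeterSystem Cfsg.Agent.ChevalleyStructure.CoxeterGeom Cfsg.Agent.Tits.Roots Cfsg.Agent.Tits.Core
  Cfsg.Agent.Tits.Exchange Cfsg.Agent.Nodes.Reps Cfsg.Agent.Nodes.BNOf Cfsg.Agent.Nodes.StabComb
  Cfsg.Agent.Nodes.Bruhat Cfsg.Agent.Nodes.OppDec Cfsg.Agent.Nodes.LeviDec Cfsg.Agent.KFacts.RgdOpp
  Cfsg.Agent.Omega.CR Cfsg.Agent.Omega.FOne.Lift.Sd Cfsg.Agent.H905.Md Cfsg.Agent.H905 Cfsg.Agent.H924.D5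
open Cfsg.Agent.Nodes.TypeC (A isCartan)
open Cfsg.Agent.H156.Ppd (lrep)
open Cfsg.Agent.H911 (lin)
open Cfsg Cfsg.Geo Matrix

universe u

/-! ### lists -/

/-- the vertices -/
def l16 : List (List (Fin 4)) := [[], [3], [2, 3], [1, 2, 3], [3, 2, 3], [0, 1, 2, 3], [3, 1, 2, 3], [3, 0, 1, 2, 3], [2, 3, 1, 2, 3], [2, 3, 0, 1, 2, 3], [3, 2, 3, 1, 2, 3], [1, 2, 3, 0, 1, 2, 3], [3, 2, 3, 0, 1, 2, 3], [3, 1, 2, 3, 0, 1, 2, 3], [2, 3, 1, 2, 3, 0, 1, 2, 3], [3, 2, 3, 1, 2, 3, 0, 1, 2, 3]]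

/-- the roots -/
def rl : List (List (Fin 4) × Fin 4) := [([], 0), ([], 1), ([], 2), ([], 3), ([0], 0), ([1], 0), ([1], 1), ([2], 1), ([2], 2), ([3], 2), ([2], 3), ([3], 3), ([1, 0], 0), ([2, 1], 0), ([2, 1], 1), ([3, 2], 1), ([3, 2], 2), ([1, 2], 3), ([2, 3], 3), ([2, 1, 0], 0), ([3, 2, 1], 0), ([3, 2, 1], 1), ([2, 3, 2], 1), ([0, 1, 2], 3), ([1, 2, 3], 3), ([3, 2, 1, 0], 0), ([2, 3, 2, 1], 0), ([2, 3, 2, 1], 1), ([0, 1, 2, 3], 3), ([2, 3, 2, 1, 0], 0), ([1, 2, 3, 2, 1], 0), ([1, 2, 3, 2, 1, 0], 0)]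

/-- the vector of a root word -/
def rv (q : List (Fin 4) × Fin 4) : Fin 4 → ℤ := rww (A 4) q.1 (Pi.single q.2 1)

/-- the root `e₃ + e₄` -/
def gm : Fin 4 → ℤ := rww (A 4) [3] (Pi.single 2 1)

/-- the root `2 e₁` -/
def z1 : Fin 4 → ℤ := ![2, 2, 2, 1]

/-- the root `2 e₂` -/
def z2 : Fin 4 → ℤ := ![0, 2, 2, 1]

theorem nl16 : (l16.map (lbw (A 4) 3)).Nodup := by decide +kernel

theorem cl16 : ∀ j, ∀ ω ∈ l16, ∃ ω' ∈ l16, DC.fire (A 4) (lbw (A 4) 3 ω) j = lbw (A 4) 3 ω' := by decide +kernel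

theorem crl : ∀ j, ∀ q ∈ rl, ∃ q' ∈ rl, rf (A 4) j (rv q) = rv q' := by decide +kernel

theorem rl0 : ∀ i, ∃ q ∈ rl, (Pi.single i 1 : Fin 4 → ℤ) = rv q := by decide +kernel

theorem w0four : ∀ m : Fin 4, rww (A 4) [0, 1, 2, 3, 0, 1, 2, 3, 0, 1, 2, 3, 0, 1, 2, 3] (Pi.single m 1) = -(Pi.single m 1) := by
  decide +kernel

theorem move : ∀ q ∈ rl, (∀ l, 0 ≤ rv q l) → 0 < rv q 3 →
    ∃ ω ∈ [[], [2], [1], [1, 2], [0, 1], [2, 1], [0, 1, 2], [2, 0, 1], [1, 2, 0, 1]], (∀ j ∈ ω, j ≠ 3) ∧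
      (rww (A 4) ω.reverse (rv q) = Pi.single 3 1 ∨ rww (A 4) ω.reverse (rv q) = gm) := by decide +kernel

theorem gam : gm 0 = 0 ∧ gm 1 = 0 ∧ (∀ l, 0 ≤ gm l) ∧ lbw (A 4) 3 [3, 2, 3] ≠ Pi.single 3 1 := by decide +kernel

theorem lab : ∀ ω ∈ l16, pr (lbw (A 4) 3 ω) (-gm) ≤ 0 ∨ lbw (A 4) 3 ω = lbw (A 4) 3 [3, 2, 3] ∨
    pr (lbw (A 4) 3 ω) z1 ≠ 1 ∨ pr (lbw (A 4) 3 ω) z2 ≠ 1 := by decide +kernel

theorem zfix : ∀ j : Fin 4, j ≠ 0 → j ≠ 1 → rf (A 4) j z1 = z1 ∧ rf (A 4) j z2 = z2 := by decide +kernel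

theorem mem_rl {W : Type*} [Group W] {cs : CoxeterSystem (CoxeterMatrix.B 4) W} {x : Fin 4 → ℤ}
    (hx : IsRoot cs (isCartan 4) x) : ∃ q ∈ rl, x = rv q := by
  have h1 := root_of_closed (cs := cs) (h := isCartan 4) (rl.map rv) (fun i => by
    obtain ⟨q, hq, e⟩ := rl0 i
    rw [e]
    exact List.mem_map_of_mem hq) (fun j x hx => by
    obtain ⟨q, hq, rfl⟩ := List.mem_map.1 hx
    obtain ⟨q', hq', e⟩ := crl j q hq
    rw [e]
    exact List.mem_map_of_mem hq') hx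
  obtain ⟨q, hq, e⟩ := List.mem_map.1 h1
  exact ⟨q, hq, e.symm⟩

theorem orb16 {W : Type*} [Group W] {cs : CoxeterSystem (CoxeterMatrix.B 4) W} (w : W) :
    ∃ ω ∈ l16, lb cs (isCartan 4) 3 w = lbw (A 4) 3 ω :=
  orbit_of_closed (cs := cs) (h := isCartan 4) 3 l16 ⟨[], by decide, rfl⟩ cl16 w

theorem face_fix {W : Type*} [Group W] {cs : CoxeterSystem (CoxeterMatrix.B 4) W} {u : W}
    (hu : u ∈ WJ cs ({j | j ≠ 0 ∧ j ≠ 1} : Set (Fin 4))) :
    rep cs (isCartan 4) u z1 = z1 ∧ rep cs (isCartan 4) u z2 = z2 :=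
  ⟨rep_fix_of_mem (fun j hj => by rw [rep_simple_rf]; exact (zfix j hj.1 hj.2).1) hu,
    rep_fix_of_mem (fun j hj => by rw [rep_simple_rf]; exact (zfix j hj.1 hj.2).2) hu⟩

theorem not_opp {W : Type*} [Group W] {cs : CoxeterSystem (CoxeterMatrix.B 4) W} (w : W) {u : W}
    (hu : u ∈ WJ cs ({j | j ≠ 0 ∧ j ≠ 1} : Set (Fin 4))) :
    lb cs (isCartan 4) 3 (w * u) ≠ -lb cs (isCartan 4) 3 w := by
  intro he
  have h1 := lb_eq_neg he z1
  rw [_root_.mul_inv_rev, inv_mul_cancel_right, (face_fix (inv_mem hu)).1] at h1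
  revert h1
  decide

section frame

variable {W Y : Type*} [Group W] [Group Y] {cs : CoxeterSystem (CoxeterMatrix.B 4) W} {p : ℕ} {T : Subgroup Y}
  {n : Fin 4 → Y} {X : (Fin 4 → ℤ) → Subgroup Y} {k V : Type*} [Field k] [AddCommGroup V] [Module k V]

variable (R : RGD cs (isCartan 4) p T n X) [Finite Y] [Finite W] [Fact p.Prime] [CharP k p]
  {ρ : Y →* Module.End k V} [FiniteDimensional k V]
  (hirr : ∀ L : Submodule k V, Ivt ρ (GG cs (isCartan 4) T X) L → L = ⊥ ∨ L = ⊤)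
include R hirr

/-- **The frame of the spin module.** -/
theorem fr8_four [Nontrivial V] (hJ : ∀ j, j ∉ Jx cs (isCartan 4) X ρ ↔ j = 3) (hV : Module.finrank k V ≤ 16) :
    Fr8 R ρ 3 := by
  have hi : (3 : Fin 4) ∉ Jx cs (isCartan 4) X ρ := (hJ 3).2 rfl
  have hD : 0 < Module.finrank k (D cs (isCartan 4) X ρ) :=
    Module.finrank_pos_iff.2 ((Submodule.nontrivial_iff_ne_bot).2 (simp_fx R ρ hirr).ne)
  have h16 := H948.Ppd.TypeB.dim_ge_last R hirr (i := 3) rfl hi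
  have hIo := finrank_Io R hirr (ρ := ρ) 3
  norm_num at h16
  have hd : Module.finrank k (D cs (isCartan 4) X ρ) = 1 := by omega
  have hLe : Module.finrank k (Le cs (isCartan 4) T X ρ {3}) ≤ 2 * Module.finrank k (D cs (isCartan 4) X ρ) := by omega
  have hK : Kv cs (isCartan 4) R.nsys X ρ = ⊥ := by
    have h2 := Kv_bound R hirr [3] (by simpa using hi) l16 (by
      rw [show (fun ω => List.map (fun i => lbw (A 4) i ω) [(3 : Fin 4)]) = (fun x => [x]) ∘ lbw (A 4) 3 from rfl,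
        ← List.map_map]
      exact nl16.map fun a b hab => by simpa using hab)
    rw [hd, show l16.length = 16 from rfl] at h2
    exact Submodule.finrank_eq_zero.1 (by omega)
  obtain ⟨γ0, γ1, γpos, γ2⟩ := gam
  have hs3 : cs.simple 3 ∈ WJ cs ({j | j ≠ 0 ∧ j ≠ 1} : Set (Fin 4)) := by
    rw [← cs.wordProd_singleton]
    exact word_mem_WJ (by decide)
  refine ⟨hJ, hK, hd, hLe, ?_, ⟨_, neg_of_words _ w0four⟩, ?_⟩
  · intro w g hg x hx b hb v hv
    have hyr : IsRoot cs (isCartan 4) (rep cs (isCartan 4) w⁻¹ x) := hx.act _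
    rcases le_or_gt 0 (pr (lb cs (isCartan 4) 3 w) x) with h0 | h0
    · refine ⟨w, g, hg, ?_, ?_⟩
      · have h1 := not_opp (cs := cs) w (one_mem _)
        rwa [mul_one] at h1
      · rw [fixv R hirr hJ hg hx h0 hb hv]
        exact Submodule.mem_sup_left hv
    · rw [← rep_inv_coord'] at h0
      have hny : 0 < (-rep cs (isCartan 4) w⁻¹ x) 3 := by rw [Pi.neg_apply]; omega
      have hny0 : (0 : Fin 4 → ℤ) ≤ -rep cs (isCartan 4) w⁻¹ x := nonneg_of_pos_apply hyr.neg hny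
      obtain ⟨q, hq, e⟩ := mem_rl hyr.neg
      rw [e] at hny hny0
      obtain ⟨ω, -, hωJ, hω⟩ := move q hq hny0 hny
      rw [← e, ← rep_wordProd_inv (cs := cs) (h := isCartan 4), map_neg] at hω
      have hu : cs.wordProd ω ∈ WJ cs (Jx cs (isCartan 4) X ρ) := word_mem_WJ fun j hj => by
        by_contra hj'
        rw [hJ] at hj'
        exact hωJ j hj hj'
      obtain ⟨a, ha⟩ := exists_rp cs R.nsys (cs.wordProd ω)
      set w1 := w * cs.wordProd ω with hw1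
      have hg1 : Rp cs R.nsys w1 (g * a) := hg.mul ha
      have hlb1 : lb cs (isCartan 4) 3 w = lb cs (isCartan 4) 3 w1 :=
        (mem_WJ_iff_lb hJ).1 (by rw [hw1, inv_mul_cancel_left]; exact hu)
      have hV1 := map_eq_of_lb R hirr hJ hg hg1 hlb1
      rw [hV1] at hv ⊢
      have hx1 : rep cs (isCartan 4) w1⁻¹ x = rep cs (isCartan 4) (cs.wordProd ω)⁻¹ (rep cs (isCartan 4) w⁻¹ x) := by
        rw [hw1, _root_.mul_inv_rev, rep_mul_apply]
      rw [← hx1] at hω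
      rcases hω with hω | hω
      · have hx2 : rep cs (isCartan 4) w1⁻¹ x = -sr 3 := by
          change -rep cs (isCartan 4) w1⁻¹ x = sr 3 at hω
          rw [← hω, neg_neg]
        refine ⟨w1 * cs.simple 3, g * a * n 3, hg1.mul (rp_simple cs R.nsys 3), ?_, ?_⟩
        · rw [hlb1]
          exact not_opp w1 hs3
        · obtain ⟨v, hv, rfl⟩ := hv
          exact edge_move R hirr hi hLe hg1 hx hx2 hb hv
      · have hx2 : rep cs (isCartan 4) w1⁻¹ x = -gm := by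
          rw [← hω, neg_neg]
        obtain ⟨c, hc⟩ := exists_rp cs R.nsys (cs.wordProd [3, 2, 3])
        refine ⟨w1 * cs.wordProd [3, 2, 3], g * a * c, hg1.mul hc, ?_, ?_⟩
        · rw [hlb1]
          exact not_opp w1 (word_mem_WJ (by decide))
        · obtain ⟨v, hv, rfl⟩ := hv
          have h3 := R.conj_mem' hg1 hx hb
          rw [hx2] at h3
          set b' := (g * a)⁻¹ * b * (g * a) with hb'
          have hbe : ρ b (ρ (g * a) v) = ρ (g * a) (ρ b' v) := by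
            rw [← rho_mul, ← rho_mul]
            congr 2
            rw [hb']
            group
          have hγr : IsRoot cs (isCartan 4) gm := isRoot_word [3] 2
          have hγJ : gm ∈ PosJ cs (isCartan 4) ({j | j ≠ 0 ∧ j ≠ 1} : Set (Fin 4)) :=
            ⟨hγr, γpos, fun l hl => by
              by_cases hl0 : l = 0
              · rw [hl0]; exact γ0
              · by_cases hl1 : l = 1
                · rw [hl1]; exact γ1
                · exact absurd ⟨hl0, hl1⟩ hl⟩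
          have hm : ρ b' v ∈ Le cs (isCartan 4) T X ρ {j | j ≠ 0 ∧ j ≠ 1} :=
            Ivt_Le R _ b' (X_le_LJ (RootsJ.neg (PosJ_subset _ hγJ)) h3) v (D_le_Le R _ hv)
          have hv1 : v ∈ (D cs (isCartan 4) X ρ).map (ρ 1) := by rw [map_one]; exact ⟨v, hv, rfl⟩
          have key : ρ b' v ∈ (D cs (isCartan 4) X ρ).map (ρ 1) ⊔ (D cs (isCartan 4) X ρ).map (ρ c) := by
            refine mem_vertex2 R hirr hJ hK (rp_one (cs := cs) (hN := R.nsys)) hc ?_ ?_
            · rw [lb_one, lb_wordProd]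
              exact γ2.symm
            · intro w' g' hg' hne1 hne2 φ hφ
              by_contra hφ0
              obtain ⟨ω', hω', he⟩ := orb16 (cs := cs) w'
              rcases lab ω' hω' with h4 | h4 | h4
              · rw [fixd_apply R hirr hJ hg' hγr.neg (by rw [he]; exact h4) h3 hφ,
                  pair_zero R hirr hJ hg' (rp_one (cs := cs) (hN := R.nsys)) hne1 hφ hv1] at hφ0
                exact hφ0 rfl
              · exact hne2 (by rw [he, h4, lb_wordProd])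
              · obtain ⟨ψ, hψ, rfl⟩ := hφ
                obtain ⟨u', hu', hu'J⟩ := vertex_face R hirr hg' hψ hm hφ0
                rw [← he, ← (mem_WJ_iff_lb hJ).1 hu'J, ← rep_inv_coord', ← rep_inv_coord',
                  (face_fix (inv_mem hu')).1, (face_fix (inv_mem hu')).2] at h4
                revert h4
                decide
          rw [hbe]
          obtain ⟨α, hα, β, hβ, e2⟩ := Submodule.mem_sup.1 key
          rw [← e2, map_add]
          refine Submodule.add_mem_sup ?_ ?_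
          · obtain ⟨α', hα', rfl⟩ := hα
            rw [rho_one]
            exact ⟨α', hα', rfl⟩
          · obtain ⟨β', hβ', rfl⟩ := hβ
            exact ⟨β', hβ', rho_mul ρ _ _ _⟩
  · have h1 := not_opp (cs := cs) 1 hs3
    rwa [one_mul] at h1

end frame

section form

variable {F : Type u} [Field F] [Finite F] {ι : Type} [Fintype ι] [DecidableEq ι] {P : Subgroup (GL ι F)}
  [Fact (Nat.Prime 2)] [CharP F 2] {Y : Type*} [Group Y] [Finite Y] {φ : Y →* GL ι F}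

/-- **A frame of vertices gives a quadratic form.** -/
theorem fixQ_of_fr8 (hφ : φ.range = P) {I W : Type*} [Fintype I] [DecidableEq I] [Group W] [Finite W]
    {M : CoxeterMatrix I} {cs : CoxeterSystem M W} {A : I → I → ℤ} {h : IsCartan M A} {T : Subgroup Y} {n : I → Y}
    {X : (I → ℤ) → Subgroup Y} [Nonempty ι] {R : RGD cs h 2 T n X} (hG : GG cs h T X = ⊤)
    (hirr : ∀ L : Submodule F (ι → F), Ivt (lrep φ) (GG cs h T X) L → L = ⊥ ∨ L = ⊤)
    {i : I} (fr : Fr8 R (lrep φ) i) (L : List (List I)) (hL : (L.map (lbw A i)).Nodup)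
    (hL' : ∀ w, ∃ ω ∈ L, lb cs h i w = lbw A i ω) (hA : H915.LD.FixA P) : H915.LD.FixQ P := by
  set ρ := lrep φ with hρ
  have hρa : ∀ y v, ρ y v = (φ y : Matrix ι ι F) *ᵥ v := fun y v => H69.Ppd.lrep_apply φ y v
  have hP : ∀ y, φ y ∈ P := fun y => hφ ▸ ⟨y, rfl⟩
  obtain ⟨f, hf, hfP⟩ := hA
  have h2 : (2 : F) = 0 := by exact_mod_cast CharP.cast_eq_zero F 2
  choose g hg using fun w => exists_rp cs R.nsys w
  obtain ⟨b, hb⟩ := fr.exists_basis hirr L hL hL' hg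
  obtain ⟨Q, hQ, hQb⟩ := H919.Q2.exists_qp_basis h2 hf b 0
  have hQv : ∀ w g', Rp cs R.nsys w g' → ∀ v ∈ (D cs h X ρ).map (ρ g'), Q v = 0 := by
    intro w g' hg' v hv
    obtain ⟨ω, hω, e⟩ := hL' w
    obtain ⟨a, ha⟩ := List.mem_iff_get.1 hω
    rw [map_eq_of_lb R hirr fr.hJ hg' (hg (cs.wordProd (L.get a))) (by rw [e, ha, lb_wordProd])] at hv
    obtain ⟨r, hr⟩ := fr.exists_smul (hb a) (b.ne_zero a) hv
    rw [← hr, hQ.smul, hQb, Pi.zero_apply, mul_zero]
  let Lf : (ι → F) → Module.Dual F (ι → F) := fun v =>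
    { toFun := fun w => f v w
      map_add' := fun x y => hf.bilinear.add_right v x y
      map_smul' := fun a x => hf.bilinear.smul_right a v x }
  have hLf : ∀ (g : Y) c v, Lf (ρ g c) (ρ g v) = Lf c v := by
    intro g c v
    rw [hρa, hρa]
    exact hfP _ ⟨φ g, hP g, rfl⟩ c v
  have hstab : ∀ x : Y, (∀ a, Q (ρ x (b a)) = 0) → ∀ v, Q (ρ x v) = Q v := by
    intro x hx v
    have h3 : (fun v => Q ((φ x : Matrix ι ι F) *ᵥ v)) = Q := by
      apply H919.Q2.qp_ext_span (hQ.comp (fun v w => hfP _ ⟨φ x, hP x, rfl⟩ v w)) hQ (S := Set.range b) b.span_eq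
      rintro _ ⟨a, rfl⟩
      have h4 := hx a
      rw [hρa] at h4
      change Q ((φ x : Matrix ι ι F) *ᵥ (b a)) = Q (b a)
      rw [h4, hQb, Pi.zero_apply]
    rw [hρa]
    exact congrFun h3 v
  let K : Subgroup Y :=
    { carrier := {g | ∀ v, Q (ρ g v) = Q v}
      one_mem' := fun v => by rw [rho_one]
      mul_mem' := fun {a b} ha hb v => by rw [rho_mul, ha, hb]
      inv_mem' := fun {a} ha v => by rw [← ha (ρ a⁻¹ v), rho_rho_inv] }
  have hK : GG cs h T X ≤ K := by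
    unfold GG
    refine sup_le ?_ (RGD.Sup_le fun x hx => ?_)
    · intro t ht
      refine hstab t fun a => ?_
      obtain ⟨c, hc, e⟩ := hb a
      rw [← e, ← rho_mul]
      have h3 : Rp cs R.nsys (cs.wordProd (L.get a)) (t * g (cs.wordProd (L.get a))) := by
        have := (rp_of_mem (cs := cs) (hN := R.nsys) ht).mul (hg (cs.wordProd (L.get a)))
        rwa [one_mul] at this
      exact hQv _ _ h3 _ ⟨c, hc, rfl⟩
    · intro y hy
      refine hstab y fun a => ?_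
      obtain ⟨w', g', hg', hne, hm⟩ := fr.mv _ _ (hg _) x hx y hy _ (hb a)
      obtain ⟨v1, hv1, v2, hv2, e⟩ := Submodule.mem_sup.1 hm
      rw [← e, hQ.add, hQv _ _ (hg _) v1 hv1, hQv _ _ hg' v2 hv2]
      have h4 : Lf v1 v2 = 0 := fr.form_zero hirr hLf (hg _) hg' hne hv1 hv2
      change 0 + 0 + Lf v1 v2 = 0
      rw [h4]
      ring
  refine H919.Q2.fixQ_of hf hQ ?_
  intro x hx v
  rw [← hφ] at hx
  obtain ⟨y, rfl⟩ := hx
  have h5 : y ∈ K := hK (by rw [hG]; trivial)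
  have h6 := h5 v
  rwa [hρa] at h6

/-- **The spin module of type `B_4` in characteristic two.** -/
theorem fixQ_spin (hC : H915.LD.Core P) (hφ : φ.range = P) {W : Type*} [Group W] [Finite W]
    {cs : CoxeterSystem (CoxeterMatrix.B 4) W} {T : Subgroup Y} {n : Fin 4 → Y} {X : (Fin 4 → ℤ) → Subgroup Y}
    (R : RGD cs (isCartan 4) 2 T n X) (hG : GG cs (isCartan 4) T X = ⊤) (hT : ∀ s ∈ T, ∀ t ∈ T, s * t = t * s)
    (hJ : ∀ j, j ∉ Jx cs (isCartan 4) X (lin (acRep φ)) ↔ j = 3) (hι : Fintype.card ι ≤ 16) (hA : H915.LD.FixA P) :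
    H915.LD.FixQ P := by
  have hne := hC.nonempty
  rw [H69.Ppd.Jx_eq R hG hT hφ hC.absIrred] at hJ
  have hirr := H69.Ppd.lrep_irr (T := T) (X := X) (h := isCartan 4) (cs := cs) hG hφ hC.absIrred
  exact fixQ_of_fr8 hφ hG hirr (fr8_four R hirr hJ (by rw [Module.finrank_fintype_fun_eq_card]; exact hι)) l16 nl16
    orb16 hA

end form

end Cfsg.Agent.SM.Ti.BC
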