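import Cfsg.Agent.SM.Ti.Rows
import Cfsg.Agent.H650.Ppd.NatB
import Cfsg.Agent.H948.Ppd.Cover
import Cfsg.Agent.H965.XZ.IdxB

/-!
# S3570, tight cores: type `B_l` in the borderline case (helper35)

`R` a root group datum of type `B_l`, all nodes `SL_2(K)`, `|K| = |F| ^ j`, `|F| ^ m = |K| ^ (2 l)`.

* `card_nd` : the order of a root group;
* **`bord_B`** : `j = 1` and (`l = 3`, `n = 13`, `J^c = {1}`) or (`l = 4`, `n = 16, 17`, `J^c = {3}`, edges of dimension 2).
-/

set_option autoImplicit false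
set_option linter.unusedSectionVars false
set_option linter.style.haveILetI false

namespace Cfsg.Agent.SM.Ti.BC

open CoxeterSystem Cfsg.Agent.ChevalleyStructure.CoxeterGeom Cfsg.Agent.Tits.Roots Cfsg.Agent.Tits.Core
  Cfsg.Agent.Tits.Exchange Cfsg.Agent.Nodes.Reps Cfsg.Agent.Nodes.BNOf Cfsg.Agent.Nodes.StabComb
  Cfsg.Agent.Nodes.Bruhat Cfsg.Agent.Nodes.OppDec Cfsg.Agent.Nodes.LeviDec Cfsg.Agent.KFacts.RgdOpp
  Cfsg.Agent.Omega.CR Cfsg.Agent.Omega.FOne.Lift.Sd Cfsg.Agent.H905.Md Cfsg.Agent.Nodes.TypeC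
open Cfsg Cfsg.Geo
open Cfsg.Agent.H911 (lin)
open Cfsg.Agent.H650.Ppd (Nd edge_pow_of_card dim_ge_list_two two_mul_le_two_pow)
open Cfsg.Agent.H905.DC (cf)
open Cfsg.Agent.H965.XZ (gs index_B card_top_B)
open scoped MatrixGroups

universe u

/-! ### numbers -/

theorem gs_eq (q k : ℕ) : gs q k = th q k := rfl

theorem not_nat {p s Q j h N : ℕ} (hp : 0 < p) (_hj : 1 ≤ j) (hh : 0 < h) (h1 : N = (1 + p ^ s) * th Q (j * h))
    (h2 : N = th (Q ^ j) h) : False := by
  rw [th_mul_th, h2, ← mul_assoc] at h1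
  have h3 := th_pos (Q ^ j) hh
  have h4 : 1 = (1 + p ^ s) * th Q j := Nat.eq_of_mul_eq_mul_right h3 (by rw [one_mul]; exact h1)
  have h5 := Nat.dvd_one.1 (Dvd.intro _ h4.symm)
  have h6 : 0 < p ^ s := pow_pos hp s
  omega

theorem j_one {c Q j h e N : ℕ} (hQ : 2 ≤ Q) (hj : 1 ≤ j) (hh : 0 < h) (h1 : N = c * th Q (j * h))
    (h2 : N = th (Q ^ j) h * (1 + (Q ^ j) ^ e)) : j = 1 := by
  rw [th_mul_th, h2, ← mul_assoc, mul_comm (th (Q ^ j) h)] at h1
  have h3 := th_pos (Q ^ j) hh
  have h4 : 1 + (Q ^ j) ^ e = c * th Q j := Nat.eq_of_mul_eq_mul_right h3 h1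
  have h5 : th Q j ∣ (Q ^ j) ^ e - 1 := by
    refine (th_dvd (by omega) j).trans ?_
    simpa using Nat.sub_dvd_pow_sub_pow (Q ^ j) 1 e
  have h6 : th Q j ∣ 1 + (Q ^ j) ^ e := Dvd.intro_left _ h4.symm
  have h7 : 1 ≤ (Q ^ j) ^ e := Nat.one_le_pow _ _ (by positivity)
  have h8 : th Q j ∣ 2 := by
    have h9 := Nat.dvd_sub h6 h5
    rwa [show 1 + (Q ^ j) ^ e - ((Q ^ j) ^ e - 1) = 2 by omega] at h9
  by_contra hne
  obtain ⟨k, rfl⟩ : ∃ k, j = k + 1 + 1 := ⟨j - 2, by omega⟩
  have h9 := Nat.le_of_dvd two_pos h8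
  rw [th_succ'] at h9
  have h10 := th_pos Q (show 0 < k + 1 by omega)
  have h11 : 2 * 1 ≤ Q * th Q (k + 1) := Nat.mul_le_mul hQ h10
  omega

theorem th_two_mul (q l : ℕ) : th q (2 * l) = th q l * (1 + q ^ l) := by
  rw [mul_comm 2 l, th_mul_th]
  congr 1
  simp [th, Finset.sum_range_succ]

/-- the nodes which are small enough -/
theorem small {l k : ℕ} (hl : 3 ≤ l) (h1 : 2 ≤ k) (h2 : k ≤ l) (h : l.choose k * 2 ^ k ≤ 4 * l + 1) :
    l = 3 ∨ (l = 4 ∧ k = 4) := by
  rcases Nat.lt_or_ge l 4 with h3 | h3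
  · left; omega
  right
  rcases Nat.lt_or_eq_of_le h2 with h4 | h4
  · exfalso
    rcases Nat.lt_or_ge k 3 with h5 | h5
    · obtain rfl : k = 2 := by omega
      rw [Nat.choose_two_right] at h
      have h6 : 2 * (l * (l - 1) / 2) = l * (l - 1) := Nat.mul_div_cancel' (Nat.even_mul_pred_self l).two_dvd
      have h7 : l * 3 ≤ l * (l - 1) := Nat.mul_le_mul_left _ (by omega)
      omega
    · have h6 := H948.Ppd.TypeB.le_choose (by omega : 1 ≤ k) h4
      have h7 : 2 ^ 3 ≤ 2 ^ k := Nat.pow_le_pow_right (by norm_num) h5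
      have h8 : l * 2 ^ 3 ≤ l.choose k * 2 ^ k := Nat.mul_le_mul h6 h7
      omega
  · subst h4
    rw [Nat.choose_self, one_mul] at h
    refine ⟨?_, ?_⟩ <;>
    · by_contra h5
      have h6 : ∀ t : ℕ, 5 ≤ t → 4 * t + 1 < 2 ^ t := by
        intro t ht
        induction t, ht using Nat.le_induction with
        | base => norm_num
        | succ t ht ih => rw [pow_succ]; omega
      have := h6 k (by omega)
      omega

/-! ### lists -/

theorem n01 : (([[], [0], [1], [0, 1], [1, 0], [1, 2], [0, 1, 0], [0, 1, 2], [1, 0, 2], [1, 2, 1], [0, 1, 0, 2],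
    [0, 1, 2, 1], [1, 0, 2, 1], [1, 2, 1, 0]] : List (List (Fin 3))).map
    fun ω => (cf (A 3) 0 ω, cf (A 3) 1 ω)).Nodup := by decide +kernel

theorem n02 : (([[], [0], [2], [0, 1], [0, 2], [2, 1], [0, 1, 2], [0, 2, 1], [2, 1, 0], [2, 1, 2], [0, 1, 2, 1],
    [0, 2, 1, 0], [0, 2, 1, 2], [2, 1, 0, 2]] : List (List (Fin 3))).map
    fun ω => (cf (A 3) 0 ω, cf (A 3) 2 ω)).Nodup := by decide +kernel

theorem n12 : (([[], [1], [2], [1, 0], [1, 2], [2, 1], [1, 0, 2], [1, 2, 1], [2, 1, 0], [2, 1, 2], [1, 0, 2, 1],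
    [1, 2, 1, 0], [1, 2, 1, 2], [2, 1, 0, 2]] : List (List (Fin 3))).map
    fun ω => (cf (A 3) 1 ω, cf (A 3) 2 ω)).Nodup := by decide +kernel

theorem n03 : (([[], [0], [3], [0, 1], [0, 3], [3, 2], [0, 1, 2], [0, 1, 3], [0, 3, 2], [3, 2, 1], [3, 2, 3],
    [0, 1, 2, 3], [0, 1, 3, 2], [0, 3, 2, 1], [0, 3, 2, 3], [3, 2, 1, 0], [3, 2, 1, 3], [0, 1, 2, 3, 2]] :
    List (List (Fin 4))).map fun ω => (cf (A 4) 0 ω, cf (A 4) 3 ω)).Nodup := by decide +kernel

/-! ### root groups -/

/-- the order of the root group of a node -/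
theorem card_nd {I W Y : Type*} [Fintype I] [DecidableEq I] [Group W] [Group Y] {M : CoxeterMatrix I}
    {cs : CoxeterSystem M W} {A : I → I → ℤ} {h : IsCartan M A} {p : ℕ} {T : Subgroup Y} {n : I → Y}
    {X : (I → ℤ) → Subgroup Y} [Finite W] (R : RGD cs h p T n X) {E : Type*} [Field E] {i : I} {σ : SL(2, E) →* Y}
    (N : Nd T X i σ) : Nat.card (X (sr i)) = Nat.card E := by
  have N' : H948.Ppd.Nd T X i σ := ⟨N.up, N.lo, N.tor⟩
  refine (Nat.card_congr (Equiv.ofBijective (fun t : E => (⟨σ (H911.SLTwo.U t), (N.up _).2 ⟨t, rfl⟩⟩ : X (sr i)))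
    ⟨fun a b e => N'.U_inj R (congrArg Subtype.val e), ?_⟩)).symm
  rintro ⟨x, hx⟩
  obtain ⟨t, rfl⟩ := (N.up x).1 hx
  exact ⟨t, rfl⟩

section

variable {l : ℕ} {W Y : Type*} [Group W] [Group Y] {cs : CoxeterSystem (CoxeterMatrix.B l) W} {p : ℕ}
  {T : Subgroup Y} {nn : Fin l → Y} {X : (Fin l → ℤ) → Subgroup Y}
  {n m : ℕ} {F : Type u} [Field F] [Finite F] {P : Subgroup (GL (Fin n) F)} {K : Type*} [Field K] [Finite K]

/-- **Type `B_l`, the borderline case.** -/
theorem bord_B [Finite Y] [Finite W] [hp : Fact p.Prime] [hFp : CharP F p] [hKp : CharP K p] (h : Tc m P)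
    (R : RGD cs (isCartan l) p T nn X) (hG : GG cs (isCartan l) T X = ⊤) (hT : ∀ s ∈ T, ∀ t ∈ T, s * t = t * s)
    {φ : Y →* GL (Fin n) F} (hφ : φ.range = P) (hN : ∀ i, ∃ σ : SL(2, K) →* Y, Nd T X i σ) (hl : 2 ≤ l)
    {j : ℕ} (hj : 1 ≤ j) (hK : Nat.card K = Nat.card F ^ j) (hm : Nat.card F ^ m = Nat.card K ^ (2 * l)) :
    j = 1 ∧ ((l = 3 ∧ n = 13 ∧ ∀ i, i ∉ Jx cs (isCartan l) X (lin (acRep φ)) ↔ (i : ℕ) = 1) ∨
      (l = 4 ∧ (n = 16 ∨ n = 17) ∧ (∀ i, i ∉ Jx cs (isCartan l) X (lin (acRep φ)) ↔ (i : ℕ) = 3) ∧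
        ∀ i : Fin l, (i : ℕ) = 3 →
          Module.finrank (AlgebraicClosure F) (Le cs (isCartan l) T X (lin (acRep φ)) {i}) = 2)) := by
  have hC := h.core
  have hP := hC.absIrred
  have hne : Nonempty (Fin n) := hC.nonempty
  have hchar : CharP (AlgebraicClosure F) p := charP_of_injective_algebraMap (algebraMap F _).injective p
  have hirr := ac_irr R hG hT hφ hP
  have hD := finrank_D R hirr hT
  have hV : Module.finrank (AlgebraicClosure F) (Fin n → AlgebraicClosure F) = n := by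
    rw [Module.finrank_fintype_fun_eq_card, Fintype.card_fin]
  have hQ : 2 ≤ Nat.card F := Finite.one_lt_card
  have hmj : m = j * (2 * l) := by
    rw [hK, ← pow_mul] at hm
    exact Nat.pow_right_injective hQ hm
  have h6 := h.six
  have h13 := h.ge
  have hlo := h.lo
  have hhi := h.hi
  have hn : n ≤ 4 * (l * j) + 1 := by
    have : 2 * m = 4 * (l * j) := by rw [hmj]; ring
    omega
  have hX : ∀ i, Nat.card (X (sr i)) = Nat.card F ^ j := fun i => by
    obtain ⟨σ, N⟩ := hN i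
    rw [card_nd R N, hK]
  obtain ⟨⟨s, -, hs⟩, -, -⟩ := h.big R hG hT hφ
  rw [hmj] at hs
  set J := Jx cs (isCartan l) X (lin (acRep φ)) with hJ
  set q := Nat.card F ^ j with hq
  have hedge : ∀ i, i ∉ J →
      2 ^ j ≤ Module.finrank (AlgebraicClosure F) (Le cs (isCartan l) T X (lin (acRep φ)) {i}) := by
    intro i hi
    have := Fintype.ofFinite K
    obtain ⟨σ, hσ⟩ := hN i
    obtain ⟨d, hd, h1⟩ := edge_pow_of_card R hG hT hφ hP hσ hi hK
    rw [h1]
    exact Nat.pow_le_pow_left hd j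
  have h2j := two_mul_le_two_pow hj
  have hIo : ∀ i, i ∉ J →
      2 * j ≤ Module.finrank (AlgebraicClosure F) (Io cs (isCartan l) T X (lin (acRep φ)) i) + 2 := by
    intro i hi
    have h2 := finrank_Io R hirr (ρ := lin (acRep φ)) i
    have h3 := hedge i hi
    rw [hD] at h2
    omega
  -- the size of a node
  have hc : ∀ i, i ∉ J → l.choose (i + 1) * 2 ^ ((i : ℕ) + 1) ≤ 4 * l + 1 := by
    intro i hi
    have h1 := H948.Ppd.TypeB.choose_mul_Le_le R hirr hi
    rw [hV] at h1
    have h2 := Nat.mul_le_mul_left (l.choose (i + 1) * 2 ^ ((i : ℕ) + 1)) (h2j.trans (hedge i hi))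
    by_contra h3
    have h4 : (4 * l + 2) * (2 * j) ≤ l.choose (i + 1) * 2 ^ ((i : ℕ) + 1) * (2 * j) :=
      Nat.mul_le_mul_right _ (by omega)
    have h5 : (4 * l + 2) * (2 * j) = 8 * (l * j) + 4 * j := by ring
    omega
  -- one node
  have hone : ∀ i : Fin l, (∀ k, k ∉ J ↔ k = i) →
      (PJ cs (isCartan l) T X J).index * ∏ t ∈ Finset.range (i + 1), gs q (t + 1) =
      ∏ t ∈ Finset.range (i + 1), gs q (l - (i + 1) + t + 1) * (1 + q ^ (l - (i + 1) + t) * q) := by
    intro i hi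
    have e : J = {k : Fin l | (k : ℕ) + 1 ≠ i + 1} := by
      ext k
      have h1 := hi k
      rw [Fin.ext_iff] at h1
      change _ ↔ (k : ℕ) + 1 ≠ i + 1
      constructor
      · intro h2 h3
        exact h1.2 (by omega) h2
      · intro h2
        by_contra h3
        exact h2 (by rw [h1.1 h3])
    rw [e]
    exact index_B R hG (fun k _ => hX k) (fun k _ => hX k) (by omega) i.2
  have hq1 : 0 < q := by positivity
  have hfirst : ∀ i : Fin l, (i : ℕ) = 0 → ¬ ∀ k, k ∉ J ↔ k = i := by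
    intro i h0 hi
    have h1 := hone i hi
    rw [h0] at h1
    simp only [zero_add, Finset.prod_range_one, add_zero] at h1
    rw [show l - 1 + 1 = l by omega, ← pow_succ, show l - 1 + 1 = l by omega, gs_eq, gs_eq, ← th_two_mul,
      show th q 1 = 1 by simp [th], mul_one] at h1
    exact not_nat hp.out.pos hj (by omega) hs h1
  obtain ⟨i, hi⟩ := exists_not_mem R hirr (by rw [hD, hV]; omega)
  rcases Nat.lt_or_ge l 3 with hl3 | hl3
  · exfalso
    obtain rfl : l = 2 := by omega
    by_cases h0 : (0 : Fin 2) ∈ J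
    · have hi1 : ∀ k, k ∉ J ↔ k = 1 := by
        have : i = 1 := by
          fin_cases i
          · exact absurd h0 hi
          · rfl
        subst this
        intro k
        fin_cases k
        · exact iff_of_false (fun h1 => h1 h0) (by decide)
        · exact iff_of_true hi rfl
      have h1 := hone 1 hi1
      simp only [Fin.val_one, Finset.prod_range_succ, Finset.prod_range_zero, gs_eq] at h1
      refine not_nat hp.out.pos hj (by omega) hs (Nat.eq_of_mul_eq_mul_right (th_pos q (show 0 < 2 by omega)) ?_)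
      simp only [th, Finset.sum_range_succ, Finset.sum_range_zero] at h1 ⊢
      linear_combination h1
    · by_cases h1 : (1 : Fin 2) ∈ J
      · refine hfirst 0 rfl fun k => ?_
        fin_cases k
        · exact iff_of_true h0 rfl
        · exact iff_of_false (fun h2 => h2 h1) (by decide)
      · have e : J = ∅ := by
          ext k
          fin_cases k
          · exact iff_of_false h0 id
          · exact iff_of_false h1 id
        have h2 := card_top_B R hG (fun k _ => hX k) (fun k _ => hX k) (by omega)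
        rw [← (RGD.B cs (isCartan 2) T X).index_mul_card] at h2
        have h3 := Nat.eq_of_mul_eq_mul_right Nat.card_pos h2
        rw [e, H35.Poin.PJ_empty] at hs
        have h4 : j = 1 := by
          refine j_one (e := 1) hQ hj (by omega) hs ?_
          rw [h3]
          simp only [Finset.prod_range_succ, Finset.prod_range_zero, gs_eq, th, Finset.sum_range_succ,
            Finset.sum_range_zero, ← hq]
          ring
        omega
  -- `l ≥ 3`
  have hj0 : ∀ k : Fin l, (k : ℕ) = 0 → k ∉ J → j = 1 := by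
    intro k h0 hk
    have h1 := H948.Ppd.TypeB.dim_ge_first R hirr (by omega) h0 hk
    rw [hD, hV, mul_one] at h1
    have h2 := hIo k hk
    by_contra h3
    have h4 : 2 * l * 2 * j ≤ 2 * l * (l - 1) *
        Module.finrank (AlgebraicClosure F) (Io cs (isCartan l) T X (lin (acRep φ)) k) :=
      Nat.mul_le_mul (Nat.mul_le_mul_left _ (by omega)) (by omega)
    have h5 : 2 * l * 2 * j = 4 * (l * j) := by ring
    omega
  have hlast : ∀ k : Fin l, (k : ℕ) + 1 = l → k ∉ J → 2 ^ l + l * 2 ^ (l - 1) *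
      Module.finrank (AlgebraicClosure F) (Io cs (isCartan l) T X (lin (acRep φ)) k) ≤ n := by
    intro k h0 hk
    have h1 := H948.Ppd.TypeB.dim_ge_last R hirr h0 hk
    rwa [hD, hV, mul_one] at h1
  have htwo : ∀ (a b : Fin l) (L : List (List (Fin l))), a ∉ J → b ∉ J → a ≠ b →
      (L.map fun ω => (cf (A l) a ω, cf (A l) b ω)).Nodup → L.length ≤ n := by
    intro a b L ha hb hab hL
    have h1 := dim_ge_list_two R hirr ha hb hab L [] [] hL List.nodup_nil List.nodup_nil
    rw [hD, hV] at h1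
    simpa using h1
  have hsm : ∀ k : Fin l, k ∉ J → (k : ℕ) = 0 ∨ l = 3 ∨ (l = 4 ∧ (k : ℕ) = 3) := by
    intro k hk
    rcases Nat.eq_zero_or_pos k with h0 | h0
    · exact Or.inl h0
    · have h1 := small hl3 (k := k + 1) (by omega) k.2 (hc k hk)
      omega
  by_cases hl3' : l = 3
  · subst hl3'
    have hj2 : (2 : Fin 3) ∉ J → j = 1 := fun hk => by
      have h1 := hlast 2 rfl hk
      have h2 := hIo 2 hk
      norm_num at h1
      omega
    have h01 : (0 : Fin 3) ∈ J ∨ (1 : Fin 3) ∈ J := by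
      by_contra h1
      push Not at h1
      have h2 := htwo 0 1 _ h1.1 h1.2 (by decide) n01
      have h3 := hj0 0 rfl h1.1
      simp only [List.length_cons, List.length_nil] at h2
      omega
    have h02 : (0 : Fin 3) ∈ J ∨ (2 : Fin 3) ∈ J := by
      by_contra h1
      push Not at h1
      have h2 := htwo 0 2 _ h1.1 h1.2 (by decide) n02
      have h3 := hj0 0 rfl h1.1
      simp only [List.length_cons, List.length_nil] at h2
      omega
    have h12 : (1 : Fin 3) ∈ J ∨ (2 : Fin 3) ∈ J := by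
      by_contra h1
      push Not at h1
      have h2 := htwo 1 2 _ h1.1 h1.2 (by decide) n12
      have h3 := hj2 h1.2
      simp only [List.length_cons, List.length_nil] at h2
      omega
    have hik : ∀ k, k ∉ J ↔ k = i := by
      intro k
      refine ⟨fun hk => ?_, fun e => e ▸ hi⟩
      fin_cases i <;> fin_cases k <;> first | rfl | (exfalso; simp at hi hk; tauto)
    have h1 := hone i hik
    fin_cases i
    · exact absurd hik (hfirst _ rfl)
    · have h2 : j = 1 := by
        refine j_one (e := 2) hQ hj (by omega) hs (Nat.eq_of_mul_eq_mul_right (th_pos q (show 0 < 2 by omega)) ?_)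
        simp only [Finset.prod_range_succ, Finset.prod_range_zero, gs_eq, th, Finset.sum_range_succ,
          Finset.sum_range_zero, ← hq] at h1 ⊢
        linear_combination h1
      refine ⟨h2, Or.inl ⟨rfl, by omega, fun k => ?_⟩⟩
      rw [hik, Fin.ext_iff]
    · exfalso
      have h2 : (PJ cs (isCartan 3) T X J).index = (1 + q + q ^ 2 + q ^ 3) * (1 + q ^ 3) := by
        refine Nat.eq_of_mul_eq_mul_right (Nat.mul_pos (th_pos q (show 0 < 2 by omega)) (th_pos q (show 0 < 3 by omega))) ?_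
        simp only [Finset.prod_range_succ, Finset.prod_range_zero, gs_eq, th, Finset.sum_range_succ,
          Finset.sum_range_zero] at h1 ⊢
        linear_combination h1
      rw [th_mul_th, ← hq, th_two_mul, h2, ← mul_assoc, ← mul_assoc] at hs
      have h3 := Nat.eq_of_mul_eq_mul_right (show 0 < 1 + q ^ 3 by positivity) hs
      have h4 : th q 3 = 1 + q + q ^ 2 := by simp [th, Finset.sum_range_succ]
      have h5 : th q 3 ∣ q ^ 3 := by
        have h7 : th q 3 ∣ th q 3 + q ^ 3 := by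
          rw [h4, h3, h4]
          exact Dvd.intro_left _ rfl
        exact (Nat.dvd_add_right dvd_rfl).1 h7
      have h7 : th q 3 = 1 := ((th_coprime q 2).pow_right 3).eq_one_of_dvd h5
      omega
  · have hik : ∀ k, k ∉ J ↔ k = i := by
      intro k
      refine ⟨fun hk => ?_, fun e => e ▸ hi⟩
      by_contra hki
      have hki' : (k : ℕ) ≠ i := fun e => hki (Fin.ext e)
      have h1 := hsm k hk
      have h2 := hsm i hi
      obtain rfl : l = 4 := by omega
      have h0 : (0 : Fin 4) ∉ J ∧ (3 : Fin 4) ∉ J := by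
        rcases Nat.eq_zero_or_pos k with h3 | h3
        · exact ⟨(Fin.ext h3 : k = 0) ▸ hk, (Fin.ext (by change _ = 3; omega) : i = 3) ▸ hi⟩
        · exact ⟨(Fin.ext (by change _ = 0; omega) : i = 0) ▸ hi, (Fin.ext (by change _ = 3; omega) : k = 3) ▸ hk⟩
      have h3 := htwo 0 3 _ h0.1 h0.2 (by decide) n03
      have h4 := hj0 0 rfl h0.1
      simp only [List.length_cons, List.length_nil] at h3
      omega
    have h2 := hsm i hi
    have h3 : (i : ℕ) ≠ 0 := fun e => hfirst i e hik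
    obtain rfl : l = 4 := by omega
    obtain rfl : i = 3 := Fin.ext (by change _ = 3; omega)
    have h4 := hlast 3 rfl hi
    have h5 := hIo 3 hi
    have h7 := hedge 3 hi
    have h8 := finrank_Io R hirr (ρ := lin (acRep φ)) 3
    rw [hD] at h8
    norm_num at h4
    have h9 : j = 1 := by omega
    subst h9
    refine ⟨rfl, Or.inr ⟨rfl, by omega, fun k => ?_, fun k hk => ?_⟩⟩
    · rw [hik, Fin.ext_iff]
      rfl
    · obtain rfl : k = 3 := Fin.ext hk
      omega

end

end Cfsg.Agent.SM.Ti.BC
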